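import Groth.Agent.InvX.Tensor
import Groth.Agent.H23.TensorDesc
import Groth.Agent.ZClosLib.Basic
import Groth.Prelude.Def_MeroDiv
import Groth.Prelude.Def_RefHull

/-!
# Fractional ideals of divisors: frames, multiplication
-/

set_option backward.isDefEq.respectTransparency false
set_option backward.isDefEq.respectTransparency.types false
set_option linter.style.haveILetI false

universe u

open CategoryTheory AlgebraicGeometry TopologicalSpace Opposite

namespace Groth.Agent.DivX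

open Groth.Agent.InvX

variable {X : Scheme.{u}}

/-- Restriction of meromorphic functions as a ring map. -/
noncomputable def kRes {U V : X.Opens} (h : V ≤ U) : Γ(Mero.kmod X, U) →+* Γ(Mero.kmod X, V) :=
  ((Mero.kring X).obj.map (homOfLE h).op).hom

theorem kRes_apply {U V : X.Opens} (h : V ≤ U) (f : Γ(Mero.kmod X, U)) (y : V) :
    (kRes h f).1 y = f.1 ⟨y.1, h y.2⟩ := rfl

theorem toK_val {U : X.Opens} (r : Γ(X, U)) (y : U) :
    (Mero.toK X U r).1 y = algebraMap (X.presheaf.stalk y.1) (Mero.KStalk X y.1) (X.presheaf.germ U y.1 y.2 r) :=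
  rfl

theorem smul_val {U : X.Opens} (r : Γ(X, U)) (f : Γ(Mero.kmod X, U)) (y : U) :
    (r • f).1 y = algebraMap (X.presheaf.stalk y.1) (Mero.KStalk X y.1) (X.presheaf.germ U y.1 y.2 r) * f.1 y :=
  (Mero.modOf_smul_apply (P := Mero.kLoc X) r f y).trans (Algebra.smul_def _ _)

theorem toK_mul_eq_smul {U : X.Opens} (r : Γ(X, U)) (f : Γ(Mero.kmod X, U)) :
    Mero.toK X U r * f = r • f :=
  Subtype.ext <| funext fun y => by rw [Mero.kmod_mul_apply, toK_val, smul_val]

/-- A meromorphic function with values in the local rings is a function. -/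
theorem exists_toK {U : X.Opens} (t : Γ(Mero.kmod X, U))
    (h : ∀ y : U, t.1 y ∈ (algebraMap (X.presheaf.stalk y.1) (Mero.KStalk X y.1)).range) :
    ∃ r : Γ(X, U), Mero.toK X U r = t := by
  choose c hc using h
  have hloc : ∀ y : U, ∃ (W : X.Opens) (hW : W ≤ U) (_ : y.1 ∈ W) (r : Γ(X, W)),
      ∀ z : W, X.presheaf.germ W z.1 z.2 r = c ⟨z.1, hW z.2⟩ := by
    intro y
    obtain ⟨W, hyW, i, a, b, hab⟩ := t.2 y
    have key : ∀ z : W, X.presheaf.germ W z.1 z.2 a = c ⟨z.1, i.le z.2⟩ * X.presheaf.germ W z.1 z.2 b.1 := by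
      intro z
      apply Mero.algebraMap_KStalk_injective z.1
      have h1 := hab z
      have h2 := IsLocalization.mk'_spec (Mero.KStalk X z.1) (X.presheaf.germ W z.1 z.2 a) (Mero.regGerm z b)
      rw [← Localization.mk_eq_mk'] at h2
      refine h2.symm.trans ?_
      rw [map_mul]
      refine congrArg (· * _) ?_
      rw [hc ⟨z.1, i.le z.2⟩]
      exact h1.symm
    obtain ⟨W₁, hy₁, c', hc'⟩ := TopCat.Presheaf.exists_germ_eq X.presheaf (c ⟨y.1, i.le hyW⟩)
    have e : X.presheaf.germ (W₁ ⊓ W) y.1 ⟨hy₁, hyW⟩ (X.presheaf.map (homOfLE inf_le_left).op c' *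
          X.presheaf.map (homOfLE inf_le_right).op b.1) =
        X.presheaf.germ (W₁ ⊓ W) y.1 ⟨hy₁, hyW⟩ (X.presheaf.map (homOfLE inf_le_right).op a) := by
      rw [map_mul, TopCat.Presheaf.germ_res_apply, TopCat.Presheaf.germ_res_apply,
        TopCat.Presheaf.germ_res_apply, hc']
      exact (key ⟨y.1, hyW⟩).symm
    obtain ⟨W', hyW', j, j', hW'⟩ :=
      TopCat.Presheaf.germ_eq (U := W₁ ⊓ W) (V := W₁ ⊓ W) X.presheaf y.1 ⟨hy₁, hyW⟩ ⟨hy₁, hyW⟩ _ _ e
    refine ⟨W', fun z hz => i.le (j.le hz).2, hyW',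
      X.presheaf.map (homOfLE (j.le.trans inf_le_left)).op c', fun z => ?_⟩
    have h1 := congrArg (X.presheaf.germ W' z.1 z.2) hW'
    simp only [TopCat.Presheaf.germ_res_apply, map_mul] at h1
    rw [TopCat.Presheaf.germ_res_apply]
    refine (mul_cancel_right_mem_nonZeroDivisors (b.2 ⟨z.1, (j.le z.2).2⟩)).1 ?_
    exact h1.trans (key ⟨z.1, (j.le z.2).2⟩)
  choose W hWU hyW r hr using hloc
  obtain ⟨s, hs, -⟩ := TopCat.Sheaf.existsUnique_gluing' X.sheaf W U (fun y => homOfLE (hWU y))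
    (fun y hy => Opens.mem_iSup.2 ⟨⟨y, hy⟩, hyW ⟨y, hy⟩⟩) r (fun y y' => by
      refine TopCat.Presheaf.section_ext X.sheaf _ _ _ fun z hz => ?_
      show X.presheaf.germ _ z hz (X.presheaf.map (homOfLE inf_le_left).op (r y)) =
        X.presheaf.germ _ z hz (X.presheaf.map (homOfLE inf_le_right).op (r y'))
      rw [TopCat.Presheaf.germ_res_apply, TopCat.Presheaf.germ_res_apply, hr y ⟨z, hz.1⟩, hr y' ⟨z, hz.2⟩])
  refine ⟨s, Subtype.ext <| funext fun z => ?_⟩
  rw [toK_val]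
  have h1 := congrArg (X.presheaf.germ (W z) z.1 (hyW z)) (hs z)
  change X.presheaf.germ (W z) z.1 (hyW z) (X.presheaf.map (homOfLE (hWU z)).op s) = _ at h1
  rw [TopCat.Presheaf.germ_res_apply, hr z ⟨z.1, hyW z⟩] at h1
  rw [h1, hc]

theorem toK_injective (U : X.Opens) : Function.Injective (Mero.toK X U) := fun r r' h => by
  refine TopCat.Presheaf.section_ext X.sheaf _ _ _ fun z hz => Mero.algebraMap_KStalk_injective z ?_
  exact congrArg (fun f : Γ(Mero.kmod X, U) => f.1 ⟨z, hz⟩) h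

/-! ### Fractional ideals -/

/-- The inclusion of `O(D)` on values. -/
theorem divι_val (D : Mero.Divisor X) {U : X.Opens} (t : Γ(Mero.divMod D, U)) :
    ((Mero.divModι D).app U t).1 = t.1 := rfl

theorem divι_injective (D : Mero.Divisor X) (U : X.Opens) : Function.Injective ((Mero.divModι D).app U) :=
  fun _ _ h => Subtype.ext (congrArg (fun f : Γ(Mero.kmod X, U) => f.1) h)

/-- A meromorphic function satisfying the condition is a section of `O(D)`. -/
noncomputable def mkDiv (D : Mero.Divisor X) {U : X.Opens} (t : Γ(Mero.kmod X, U))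
    (h : ∀ y : U, Mero.DivCond D y.1 (t.1 y)) : Γ(Mero.divMod D, U) :=
  ⟨t.1, t.2, h⟩

theorem exists_rep (D : Mero.Divisor X) (x : X) : ∃ g : (Mero.KStalk X x)ˣ, D.1 x = QuotientGroup.mk g :=
  ⟨(QuotientGroup.mk_surjective (D.1 x)).choose, (QuotientGroup.mk_surjective (D.1 x)).choose_spec.symm⟩

/-- The condition for one representative suffices. -/
theorem divCond_of_rep {D : Mero.Divisor X} {x : X} {g : (Mero.KStalk X x)ˣ} (hg : D.1 x = QuotientGroup.mk g)
    {t : Mero.KStalk X x} (ht : t * g ∈ (algebraMap (X.presheaf.stalk x) (Mero.KStalk X x)).range) :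
    Mero.DivCond D x t := by
  intro g' hg'
  obtain ⟨a, ha⟩ := QuotientGroup.eq.1 (hg.symm.trans hg')
  have h2 : (g' : Mero.KStalk X x) = g * algebraMap (X.presheaf.stalk x) (Mero.KStalk X x) a := by
    have : g' = g * Units.map (algebraMap (X.presheaf.stalk x) (Mero.KStalk X x)).toMonoidHom a := by
      rw [ha]; group
    rw [this]; rfl
  rw [h2, ← mul_assoc]
  exact mul_mem ht ⟨_, rfl⟩

theorem divCond_mul {D E : Mero.Divisor X} {x : X} {t t' : Mero.KStalk X x} (h : Mero.DivCond D x t)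
    (h' : Mero.DivCond E x t') : Mero.DivCond (D * E) x (t * t') := by
  obtain ⟨g, hg⟩ := exists_rep D x
  obtain ⟨g', hg'⟩ := exists_rep E x
  refine divCond_of_rep (g := g * g') ?_ ?_
  · rw [QuotientGroup.mk_mul, ← hg, ← hg']; rfl
  · rw [Units.val_mul, mul_mul_mul_comm]
    exact mul_mem (h g hg) (h' g' hg')

theorem unit_val_mul {U : X.Opens} (f : (Γ(Mero.kmod X, U))ˣ) (y : U) :
    ((f⁻¹ : (Γ(Mero.kmod X, U))ˣ) : Γ(Mero.kmod X, U)).1 y * (f : Γ(Mero.kmod X, U)).1 y = 1 :=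
  congrArg (fun k : Γ(Mero.kmod X, U) => k.1 y) f.inv_mul

theorem divCond_inv_of_germOf {D : Mero.Divisor X} {U : X.Opens} (f : (Γ(Mero.kmod X, U))ˣ)
    (hD : ∀ y : U, D.1 y.1 = Mero.germOf f y) (y : U) :
    Mero.DivCond D y.1 (((f⁻¹ : (Γ(Mero.kmod X, U))ˣ) : Γ(Mero.kmod X, U)).1 y) :=
  divCond_of_rep (hD y) ⟨1, (map_one _).trans (unit_val_mul f y).symm⟩

/-- The local generator `1 / f` of `O(D)` where `D = div f`. -/
noncomputable def gen {D : Mero.Divisor X} {U : X.Opens} (f : (Γ(Mero.kmod X, U))ˣ)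
    (hD : ∀ y : U, D.1 y.1 = Mero.germOf f y) : Γ(Mero.divMod D, U) :=
  mkDiv D _ (divCond_inv_of_germOf f hD)

theorem isFrame_gen {D : Mero.Divisor X} {U : X.Opens} (f : (Γ(Mero.kmod X, U))ˣ)
    (hD : ∀ y : U, D.1 y.1 = Mero.germOf f y) : IsFrame (gen f hD) := by
  intro V h
  have hval : ∀ (r : Γ(X, V)) (y : V), (r • AModX.res (Mero.divMod D) h (gen f hD)).1 y =
      algebraMap (X.presheaf.stalk y.1) (Mero.KStalk X y.1) (X.presheaf.germ V y.1 y.2 r) *
        ((f⁻¹ : (Γ(Mero.kmod X, U))ˣ) : Γ(Mero.kmod X, U)).1 ⟨y.1, h y.2⟩ := fun r y => by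
    rw [← Algebra.smul_def]; rfl
  constructor
  · intro r r' hrr
    refine TopCat.Presheaf.section_ext X.sheaf _ _ _ fun z hz => Mero.algebraMap_KStalk_injective z ?_
    have h1 := congrArg (fun t : Γ(Mero.divMod D, V) => t.1 ⟨z, hz⟩) hrr
    simp only [hval] at h1
    exact (IsUnit.mul_left_inj (IsUnit.of_mul_eq_one _ (unit_val_mul f ⟨z, h hz⟩))).1 h1
  · intro t
    obtain ⟨r, hr⟩ := exists_toK ((Mero.divModι D).app V t * kRes h (f : Γ(Mero.kmod X, U)))
      (fun y => t.2.2 y _ (hD ⟨y.1, h y.2⟩))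
    refine ⟨r, Subtype.ext <| funext fun y => ?_⟩
    have h1 := congrArg (fun k : Γ(Mero.kmod X, V) => k.1 y) hr
    simp only [toK_val, Mero.kmod_mul_apply, kRes_apply, divι_val] at h1
    rw [hval, h1, mul_assoc, mul_comm _ (((f⁻¹ : (Γ(Mero.kmod X, U))ˣ) : Γ(Mero.kmod X, U)).1 _),
      unit_val_mul, mul_one]

theorem exists_gen_frame (D : Mero.Divisor X) (x : X) :
    ∃ (U : X.Opens) (_ : x ∈ U) (f : (Γ(Mero.kmod X, U))ˣ) (hD : ∀ y : U, D.1 y.1 = Mero.germOf f y),
      IsFrame (gen f hD) := by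
  obtain ⟨U, hx, f, hf⟩ := D.2 x
  exact ⟨U, hx, f, hf, isFrame_gen f hf⟩

theorem isInvertible_divMod (D : Mero.Divisor X) : PicF.IsInvertible (Mero.divMod D) :=
  isInvertible_of_frames fun x =>
    let ⟨U, hx, f, hD, hf⟩ := exists_gen_frame D x
    ⟨U, hx, gen f hD, hf⟩

/-! ### Maps -/

theorem isIso_of_frames {M N : X.Modules} (φ : M ⟶ N)
    (h : ∀ x : X, ∃ (U : X.Opens) (_ : x ∈ U) (e : Γ(M, U)), IsFrame e ∧ IsFrame (φ.app U e)) : IsIso φ := by
  refine ZClosLib.isIso_of_stalkMap_bijective φ fun x => ?_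
  obtain ⟨U, hx, e, he, he'⟩ := h x
  have key : (fun c : X.presheaf.stalk x => RefHull.stalkMapₗ φ x (c • M.presheaf.germ U x hx e)) =
      fun c => c • N.presheaf.germ U x hx (φ.app U e) := funext fun c => by
    rw [map_smul, RefHull.stalkMapₗ_germ]
  have hb : Function.Bijective
      ((RefHull.stalkMapₗ φ x) ∘ fun c : X.presheaf.stalk x => c • M.presheaf.germ U x hx e) := by
    rw [Function.comp_def, key]; exact he'.germ_bijective hx
  exact (Function.Bijective.of_comp_iff _ (he.germ_bijective hx)).1 hb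

/-- Multiplication of fractional ideals. -/
noncomputable def mulBilin (D E : Mero.Divisor X) :
    H23.TensorDesc.Bilin (Mero.divMod D) (Mero.divMod E) (Mero.divMod (D * E)) where
  b U t t' := mkDiv (D * E) ((Mero.divModι D).app U t * (Mero.divModι E).app U t')
    fun y => divCond_mul (t.2.2 y) (t'.2.2 y)
  add_left U t t' n := Subtype.ext <| funext fun y => add_mul (t.1 y) (t'.1 y) (n.1 y)
  smul_left U r t n := Subtype.ext <| funext fun y => smul_mul_assoc _ (t.1 y) (n.1 y)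
  add_right U t n n' := Subtype.ext <| funext fun y => mul_add (t.1 y) (n.1 y) (n'.1 y)
  smul_right U r t n := Subtype.ext <| funext fun y => mul_smul_comm _ (t.1 y) (n.1 y)
  res h t t' := rfl

/-- The multiplication map. -/
noncomputable def mulMap (D E : Mero.Divisor X) :
    CohB1.tensorMod (Mero.divMod D) (Mero.divMod E) ⟶ Mero.divMod (D * E) :=
  H23.TensorDesc.desc (mulBilin D E)

theorem mulMap_tmul (D E : Mero.Divisor X) (U : X.Opens) (t : Γ(Mero.divMod D, U)) (t' : Γ(Mero.divMod E, U)) :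
    (Mero.divModι (D * E)).app U ((mulMap D E).app U (SecTwist.tmul (Mero.divMod D) (Mero.divMod E) U t t')) =
      (Mero.divModι D).app U t * (Mero.divModι E).app U t' := by
  have h := H23.TensorDesc.desc_tmul (mulBilin D E) U t t'
  exact (congrArg ((Mero.divModι (D * E)).app U) h).trans rfl

theorem isIso_mulMap (D E : Mero.Divisor X) : IsIso (mulMap D E) := by
  refine isIso_of_frames _ fun x => ?_
  obtain ⟨U, hxU, f, hf⟩ := D.2 x
  obtain ⟨U', hxU', f', hf'⟩ := E.2 x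
  let W : X.Opens := U ⊓ U'
  let g := Units.map (kRes (inf_le_left : W ≤ U)).toMonoidHom f
  let g' := Units.map (kRes (inf_le_right : W ≤ U')).toMonoidHom f'
  have hg : ∀ y : W, D.1 y.1 = Mero.germOf g y := fun y => (hf ⟨y.1, y.2.1⟩).trans rfl
  have hg' : ∀ y : W, E.1 y.1 = Mero.germOf g' y := fun y => (hf' ⟨y.1, y.2.2⟩).trans rfl
  have hgg : ∀ y : W, (D * E).1 y.1 = Mero.germOf (g * g') y := fun y => by
    rw [Mero.germOf, map_mul, QuotientGroup.mk_mul]
    exact congrArg₂ (· * ·) (hg y) (hg' y)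
  refine ⟨W, ⟨hxU, hxU'⟩, SecTwist.tmul (Mero.divMod D) (Mero.divMod E) W (gen g hg) (gen g' hg'),
    isFrame_tmul (isFrame_gen g hg) (isFrame_gen g' hg'), ?_⟩
  have heq : (mulMap D E).app W (SecTwist.tmul (Mero.divMod D) (Mero.divMod E) W (gen g hg) (gen g' hg')) =
      gen (g * g') hgg := by
    refine divι_injective _ W ((mulMap_tmul D E W _ _).trans (Subtype.ext <| funext fun y => ?_))
    show ((g⁻¹ : (Γ(Mero.kmod X, W))ˣ) : Γ(Mero.kmod X, W)).1 y * ((g'⁻¹ : (Γ(Mero.kmod X, W))ˣ) : Γ(Mero.kmod X, W)).1 y =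
      (((g * g')⁻¹ : (Γ(Mero.kmod X, W))ˣ) : Γ(Mero.kmod X, W)).1 y
    rw [mul_inv_rev, mul_comm (g'⁻¹), Units.val_mul, Mero.kmod_mul_apply]
  rw [heq]
  exact isFrame_gen _ hgg

/-- Multiplication by a global unit of meromorphic functions. -/
noncomputable def scaleMap (D D' : Mero.Divisor X) (f : (Γ(Mero.kmod X, ⊤))ˣ) (h : D = D' * Mero.div f) :
    Mero.divMod D ⟶ Mero.divMod D' :=
  ⟨PresheafOfModules.homMk (M₁ := (Mero.divMod D).val) (M₂ := (Mero.divMod D').val)
    { app := fun U => AddCommGrpCat.ofHom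
        { toFun := fun (t : Γ(Mero.divMod D, U.unop)) =>
            (mkDiv D' (kRes le_top (f : Γ(Mero.kmod X, ⊤)) * (Mero.divModι D).app U.unop t) (fun y => by
              intro g hg
              have := t.2.2 y (g * Units.map (Mero.evalK X ⊤ ⟨y.1, trivial⟩).toMonoidHom f) (by
                rw [QuotientGroup.mk_mul, h, ← hg]; rfl)
              rw [Mero.kmod_mul_apply, kRes_apply, divι_val]
              rw [Units.val_mul] at this
              convert this using 1
              show (f : Γ(Mero.kmod X, ⊤)).1 ⟨y.1, trivial⟩ * t.1 y * g = t.1 y * (g * (f : Γ(Mero.kmod X, ⊤)).1 ⟨y.1, trivial⟩)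
              ring) : Γ(Mero.divMod D', U.unop))
          map_zero' := Subtype.ext <| funext fun y => mul_zero _
          map_add' := fun t t' => Subtype.ext <| funext fun y => mul_add _ (t.1 y) (t'.1 y) }
      naturality := by intros; rfl }
    (fun U r t => Subtype.ext <| funext fun y => mul_smul_comm _ _ (t.1 y))⟩

theorem scaleMap_val (D D' : Mero.Divisor X) (f : (Γ(Mero.kmod X, ⊤))ˣ) (h : D = D' * Mero.div f)
    {U : X.Opens} (t : Γ(Mero.divMod D, U)) (y : U) :
    ((scaleMap D D' f h).app U t).1 y = (f : Γ(Mero.kmod X, ⊤)).1 ⟨y.1, trivial⟩ * t.1 y := rfl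

theorem isIso_scaleMap (D D' : Mero.Divisor X) (f : (Γ(Mero.kmod X, ⊤))ˣ) (h : D = D' * Mero.div f) :
    IsIso (scaleMap D D' f h) := by
  refine isIso_of_frames _ fun x => ?_
  obtain ⟨U, hxU, g, hg⟩ := D.2 x
  let g' := g * (Units.map (kRes (le_top : U ≤ ⊤)).toMonoidHom f)⁻¹
  have hg' : ∀ y : U, D'.1 y.1 = Mero.germOf g' y := fun y => by
    have h2 : D' = D * (Mero.div f)⁻¹ := by rw [h, mul_inv_cancel_right]
    rw [h2, Mero.germOf, map_mul, map_inv, QuotientGroup.mk_mul, QuotientGroup.mk_inv]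
    exact congrArg₂ (· * ·) (hg y) rfl
  refine ⟨U, hxU, gen g hg, isFrame_gen g hg, ?_⟩
  have heq : (scaleMap D D' f h).app U (gen g hg) = gen g' hg' := Subtype.ext <| funext fun y => by
    rw [scaleMap_val]
    show _ = ((g'⁻¹ : (Γ(Mero.kmod X, U))ˣ) : Γ(Mero.kmod X, U)).1 y
    rw [mul_inv_rev, inv_inv, Units.val_mul, Mero.kmod_mul_apply]
    rfl
  rw [heq]
  exact isFrame_gen g' hg'

/-! ### Invertible submodules of meromorphic functions -/

theorem isUnit_of_smul_injective {U : X.Opens} (f : Γ(Mero.kmod X, U))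
    (h : ∀ (V : X.Opens) (hV : V ≤ U) (r : Γ(X, V)), r • kRes hV f = 0 → r = 0) : IsUnit f := by
  have hunit : ∀ y : U, ∃ (W : X.Opens) (_ : y.1 ∈ W) (i : W ≤ U) (a b : Mero.regSub X W),
      ∀ z : W, f.1 ⟨z.1, i z.2⟩ = LocalizedModule.mk (X.presheaf.germ W z.1 z.2 a.1) (Mero.regGerm z b) := by
    intro y
    obtain ⟨W, hyW, i, a, b, hab⟩ := f.2 y
    have ha : a ∈ Mero.regSub X W := fun z => by
      rw [mem_nonZeroDivisors_iff_right]
      intro c hc
      obtain ⟨W₁, hz₁, c', rfl⟩ := TopCat.Presheaf.exists_germ_eq X.presheaf c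
      have e : X.presheaf.germ (W₁ ⊓ W) z.1 ⟨hz₁, z.2⟩ (X.presheaf.map (homOfLE inf_le_left).op c' *
          X.presheaf.map (homOfLE inf_le_right).op a) = 0 := by
        rw [map_mul, TopCat.Presheaf.germ_res_apply, TopCat.Presheaf.germ_res_apply]
        exact hc
      obtain ⟨W', hzW', j, j', hW'⟩ := TopCat.Presheaf.germ_eq (U := W₁ ⊓ W) (V := W₁ ⊓ W) X.presheaf z.1
        ⟨hz₁, z.2⟩ ⟨hz₁, z.2⟩ _ 0 (e.trans (map_zero _).symm)
      have hle : W' ≤ U := fun w hw => i.le (j.le hw).2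
      have h0 : X.presheaf.map (homOfLE (j.le.trans inf_le_left)).op c' = 0 := by
        refine h W' hle _ (Subtype.ext <| funext fun w => ?_)
        rw [smul_val, kRes_apply]
        have h1 := congrArg (X.presheaf.germ W' w.1 w.2) hW'
        simp only [TopCat.Presheaf.germ_res_apply, map_mul, map_zero] at h1
        rw [TopCat.Presheaf.germ_res_apply]
        refine (IsUnit.mul_left_eq_zero (IsLocalization.map_units (Mero.KStalk X w.1)
          (Mero.regGerm ⟨w.1, (j.le w.2).2⟩ b))).1 ?_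
        have h2 := IsLocalization.mk'_spec (Mero.KStalk X w.1)
          (X.presheaf.germ W w.1 (j.le w.2).2 a) (Mero.regGerm ⟨w.1, (j.le w.2).2⟩ b)
        rw [← Localization.mk_eq_mk'] at h2
        rw [mul_assoc]
        refine Eq.trans (congrArg (_ * ·) ?_) ((map_mul _ _ _).symm.trans ((congrArg _ h1).trans (map_zero _)))
        exact (congrArg (· * _) (hab ⟨w.1, (j.le w.2).2⟩)).trans h2
      have h2 := congrArg (X.presheaf.germ W' z.1 hzW') h0
      rwa [TopCat.Presheaf.germ_res_apply, map_zero] at h2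
    exact ⟨W, hyW, i.le, ⟨a, ha⟩, b, hab⟩
  let inv : ∀ y : U, Mero.KStalk X y.1 := fun y => Ring.inverse (f.1 y)
  have hval : ∀ (y : U) (W : X.Opens) (_ : y.1 ∈ W) (i : W ≤ U) (a b : Mero.regSub X W)
      (_ : ∀ z : W, f.1 ⟨z.1, i z.2⟩ = LocalizedModule.mk (X.presheaf.germ W z.1 z.2 a.1) (Mero.regGerm z b))
      (z : W), f.1 ⟨z.1, i z.2⟩ * LocalizedModule.mk (X.presheaf.germ W z.1 z.2 b.1) (Mero.regGerm z a) = 1 := by
    intro y W _ i a b hab z
    rw [hab z, LocalizedModule.mk_mul_mk, mul_comm (Mero.regGerm z b) (Mero.regGerm z a)]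
    exact Mero.mk_self_eq_one (Mero.regGerm z a * Mero.regGerm z b)
  have hinv : (Mero.kLoc X).pred inv := fun y => by
    obtain ⟨W, hyW, i, a, b, hab⟩ := hunit y
    refine ⟨W, hyW, homOfLE i, b.1, a, fun z => ?_⟩
    have h1 := hval y W hyW i a b hab z
    show Ring.inverse (f.1 ⟨z.1, i z.2⟩) = _
    have hu : IsUnit (f.1 ⟨z.1, i z.2⟩) := IsUnit.of_mul_eq_one _ h1
    obtain ⟨u, hu'⟩ := hu
    rw [← hu', Ring.inverse_unit]
    rw [← hu'] at h1
    exact (Units.inv_eq_of_mul_eq_one_right h1)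
  refine IsUnit.of_mul_eq_one (⟨inv, hinv⟩ : Γ(Mero.kmod X, U)) (Subtype.ext <| funext fun y => ?_)
  obtain ⟨W, hyW, i, a, b, hab⟩ := hunit y
  exact Ring.mul_inverse_cancel _ (IsUnit.of_mul_eq_one _ (hval y W hyW i a b hab ⟨y.1, hyW⟩))

theorem isInvertible_iff (J : X.Modules) (ι : J ⟶ Mero.kmod X) [Mono ι] :
    PicF.IsInvertible J ↔ ∀ x : ↥X, ∃ (U : X.Opens) (_ : x ∈ U) (f : (Γ(Mero.kmod X, U))ˣ),
      ∀ (V : X.Opens) (hV : V ≤ U),
        Set.range ⇑(ι.val.app (Opposite.op V)) =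
          {t : Γ(Mero.kmod X, V) | ∃ r : Γ(X, V),
            t = Mero.toK X V r * (Mero.kmod X).presheaf.map (homOfLE hV).op (f : Γ(Mero.kmod X, U))} := by
  have hinj : ∀ V, Function.Injective (ι.app V) := fun V => QCoh.app_injective ι V
  constructor
  · intro hJ x
    obtain ⟨U, hx, e, -, he, -⟩ := exists_frame₂ hJ hJ x
    have hnat : ∀ (V : X.Opens) (hV : V ≤ U), ι.app V (AModX.res J hV e) = kRes hV (ι.app U e) := fun V hV =>
      QCoh.map_app_comm ι (homOfLE hV) e
    have hu : IsUnit (ι.app U e) := isUnit_of_smul_injective _ fun V hV r hr => by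
      rw [← hnat, ← Scheme.Modules.Hom.app_smul] at hr
      exact he.coord_unique hV ((hinj V (hr.trans (map_zero _).symm)).trans (zero_smul _ _).symm)
    refine ⟨U, hx, hu.unit, fun V hV => Set.ext fun t => ⟨?_, ?_⟩⟩
    · rintro ⟨s, rfl⟩
      obtain ⟨r, rfl⟩ := he.exists_coord hV s
      refine ⟨r, ?_⟩
      rw [toK_mul_eq_smul]
      exact (Scheme.Modules.Hom.app_smul ι r _).trans (congrArg (r • ·) (hnat V hV))
    · rintro ⟨r, rfl⟩
      refine ⟨r • AModX.res J hV e, ?_⟩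
      rw [toK_mul_eq_smul]
      exact (Scheme.Modules.Hom.app_smul ι r _).trans (congrArg (r • ·) (hnat V hV))
  · intro h
    refine isInvertible_of_frames fun x => ?_
    obtain ⟨U, hx, f, hf⟩ := h x
    obtain ⟨e, he⟩ : (f : Γ(Mero.kmod X, U)) ∈ Set.range (ι.app U) := (hf U le_rfl).symm ▸
      ⟨1, by rw [map_one, one_mul]; exact (QCoh.map_id' (M := Mero.kmod X) _ _).symm⟩
    refine ⟨U, hx, e, fun V hV => ?_⟩
    have hnat : ι.app V (AModX.res J hV e) = kRes hV (f : Γ(Mero.kmod X, U)) :=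
      (QCoh.map_app_comm ι (homOfLE hV) e).trans (congrArg (kRes hV) he)
    constructor
    · intro r r' hrr
      have h1 := congrArg (ι.app V) hrr
      simp only [Scheme.Modules.Hom.app_smul, hnat, ← toK_mul_eq_smul] at h1
      exact toK_injective V ((f.isUnit.map (kRes hV)).mul_left_inj.1 h1)
    · intro s
      obtain ⟨r, hr⟩ : ι.app V s ∈ {t : Γ(Mero.kmod X, V) | ∃ r : Γ(X, V),
          t = Mero.toK X V r * (Mero.kmod X).presheaf.map (homOfLE hV).op (f : Γ(Mero.kmod X, U))} :=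
        hf V hV ▸ ⟨s, rfl⟩
      refine ⟨r, hinj V ?_⟩
      rw [Scheme.Modules.Hom.app_smul, hnat, ← toK_mul_eq_smul]
      exact hr.symm

end Groth.Agent.DivX
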