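import Groth.Prelude.Def_BlowUp2
import Groth.Agent.QCoh.Support
import Mathlib.AlgebraicGeometry.IdealSheaf.Subscheme
import Mathlib.AlgebraicGeometry.Noetherian
import Mathlib.RingTheory.Ideal.Height
import Mathlib.RingTheory.UniqueFactorizationDomain.Basic
import Mathlib.RingTheory.Localization.AtPrime.Basic

/-!
# Prime divisors with factorial local rings are effective Cartier
-/

set_option backward.isDefEq.respectTransparency false
set_option linter.style.haveILetI false

universe u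

open CategoryTheory AlgebraicGeometry TopologicalSpace

namespace Groth.Agent.DivX

/-- A height one prime in a factorial domain is principal. -/
theorem exists_prime_span_of_height_one {A : Type u} [CommRing A] [IsDomain A] [UniqueFactorizationMonoid A]
    (P : Ideal A) [P.IsPrime] (hP : P.height = 1) : ∃ π : A, Prime π ∧ P = Ideal.span {π} := by
  have hne : P ≠ ⊥ := fun h => by
    rw [h, Ideal.height_bot] at hP
    exact zero_ne_one hP
  obtain ⟨π, hπP, hπ⟩ := Ideal.IsPrime.exists_mem_prime_of_ne_bot ‹P.IsPrime› hne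
  haveI : (Ideal.span {π}).IsPrime := (Ideal.span_singleton_prime hπ.ne_zero).2 hπ
  refine ⟨π, hπ, (eq_of_le_of_not_lt ((Ideal.span_singleton_le_iff_mem P).2 hπP) fun hlt => ?_).symm⟩
  have h1 : (⊥ : Ideal A) < Ideal.span {π} :=
    bot_lt_iff_ne_bot.2 fun h => hπ.ne_zero (Ideal.span_singleton_eq_bot.1 h)
  haveI : (⊥ : Ideal A).FiniteHeight := ⟨Or.inr (by simp)⟩
  haveI : (Ideal.span {π}).FiniteHeight := ⟨Or.inr fun h => by
    have := Ideal.height_mono ((Ideal.span_singleton_le_iff_mem P).2 hπP)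
    rw [h, hP] at this
    exact ENat.top_ne_one (top_le_iff.1 this).symm⟩
  have h2 := (Ideal.height_strict_mono_of_isPrime (I := ⊥) (J := Ideal.span {π}) h1)
  have h3 := (Ideal.height_strict_mono_of_isPrime (I := Ideal.span {π}) (J := P) hlt)
  rw [hP, Order.lt_one_iff] at h3
  rw [h3] at h2
  exact not_lt_bot h2

/-- An ideal principal at a prime is principal near it, by a non-zero-divisor when the local ring is a domain. -/
theorem exists_gen_away {R : Type u} [CommRing R] [IsNoetherianRing R] (I : Ideal R) (p : Ideal R) [p.IsPrime]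
    (A : Type u) [CommRing A] [IsDomain A] [Algebra R A] [IsLocalization.AtPrime A p] (g : R)
    (hg0 : algebraMap R A g ≠ 0) (hgI : g ∈ I) (hI : I.map (algebraMap R A) = Ideal.span {algebraMap R A g}) :
    ∃ a ∉ p, ∀ (S : Type u) [CommRing S] [Algebra R S] [IsLocalization.Away a S],
      I.map (algebraMap R S) = Ideal.span {algebraMap R S g} ∧ algebraMap R S g ∈ nonZeroDivisors S := by
  classical
  obtain ⟨s, hs⟩ := IsNoetherian.noetherian I
  obtain ⟨t, ht⟩ := IsNoetherian.noetherian (LinearMap.ker (LinearMap.mulRight R g))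
  have h1 : ∀ y ∈ I, ∃ a ∉ p, a * y ∈ Ideal.span {g} := by
    intro y hy
    have hy' : algebraMap R A y ∈ Ideal.span {algebraMap R A g} := hI ▸ Ideal.mem_map_of_mem _ hy
    obtain ⟨c, hc⟩ := Ideal.mem_span_singleton'.1 hy'
    obtain ⟨⟨r, u⟩, hu⟩ := IsLocalization.surj p.primeCompl c
    have : algebraMap R A (u.1 * y) = algebraMap R A (r * g) := by
      rw [map_mul, map_mul, ← hu, ← hc]; ring
    obtain ⟨w, hw⟩ := (IsLocalization.eq_iff_exists p.primeCompl A).1 this
    refine ⟨w.1 * u.1, (w * u).2, Ideal.mem_span_singleton'.2 ⟨w.1 * r, ?_⟩⟩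
    linear_combination -hw
  have h2 : ∀ y : R, y * g = 0 → ∃ a ∉ p, a * y = 0 := by
    intro y hy
    have : algebraMap R A y = 0 :=
      (mul_eq_zero.1 (by rw [← map_mul, hy, map_zero] : algebraMap R A y * algebraMap R A g = 0)).resolve_right hg0
    obtain ⟨w, hw⟩ := (IsLocalization.map_eq_zero_iff p.primeCompl A y).1 this
    exact ⟨w.1, w.2, hw⟩
  choose a ha ha' using fun y : s => h1 y.1 (hs ▸ Submodule.subset_span y.2)
  choose b hb hb' using fun y : t => h2 y.1 (by
    have : y.1 ∈ LinearMap.ker (LinearMap.mulRight R g) := ht ▸ Submodule.subset_span y.2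
    simpa using this)
  refine ⟨(∏ y, a y) * ∏ y, b y, fun h => ?_, fun S _ _ _ => ?_⟩
  · rcases ‹p.IsPrime›.mem_or_mem h with h | h <;> obtain ⟨i, -, hi⟩ := ‹p.IsPrime›.prod_mem_iff.1 h
    exacts [ha i hi, hb i hi]
  have hu := IsLocalization.Away.algebraMap_isUnit (S := S) ((∏ y, a y) * ∏ y, b y)
  rw [map_mul, IsUnit.mul_iff, map_prod, map_prod, IsUnit.prod_iff, IsUnit.prod_iff] at hu
  refine ⟨le_antisymm ?_ ((Ideal.span_singleton_le_iff_mem _).2 (Ideal.mem_map_of_mem _ hgI)), ?_⟩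
  · conv_lhs => rw [← hs]
    rw [Ideal.map_span, Ideal.span_le]
    rintro _ ⟨y, hy, rfl⟩
    obtain ⟨c, hc⟩ := Ideal.mem_span_singleton'.1 (ha' ⟨y, hy⟩)
    refine ((hu.1 ⟨y, hy⟩ (Finset.mem_univ _)).dvd_mul_left.1 ?_) |> Ideal.mem_span_singleton.2
    rw [← map_mul, ← hc, map_mul]
    exact dvd_mul_left _ _
  · refine mem_nonZeroDivisors_iff_right.2 fun z hz => ?_
    obtain ⟨r, u, rfl⟩ := IsLocalization.exists_mk'_eq (Submonoid.powers ((∏ y, a y) * ∏ y, b y)) z
    rw [mul_comm, IsLocalization.mul_mk'_eq_mk'_of_mul, IsLocalization.mk'_eq_zero_iff] at hz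
    obtain ⟨w, hw⟩ := hz
    have hw' : (w.1 * r) ∈ Submodule.span R (t : Set R) := by
      rw [ht]; simp only [LinearMap.mem_ker, LinearMap.mulRight_apply]; linear_combination hw
    have hz0 : ∀ y ∈ Submodule.span R (t : Set R), algebraMap R S y = 0 := by
      intro y hy
      induction hy using Submodule.span_induction with
      | mem y hy =>
        refine (hu.2 ⟨y, hy⟩ (Finset.mem_univ _)).mul_right_eq_zero.1 ?_
        rw [← map_mul, hb' ⟨y, hy⟩, map_zero]
      | zero => exact map_zero _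
      | add u v _ _ hu hv => rw [map_add, hu, hv, add_zero]
      | smul c u _ hu => rw [smul_eq_mul, map_mul, hu, mul_zero]
    have := hz0 _ hw'
    rw [map_mul] at this
    rw [IsLocalization.mk'_eq_zero_iff]
    obtain ⟨w', hw''⟩ := (IsLocalization.map_eq_zero_iff (Submonoid.powers ((∏ y, a y) * ∏ y, b y)) S r).1
      ((IsLocalization.map_units S w).mul_right_eq_zero.1 this)
    exact ⟨w', hw''⟩

variable {X : Scheme.{u}}

theorem isEffCartier_of_codim_one [IsLocallyNoetherian X] (𝓘 : X.IdealSheafData) [IsIntegral 𝓘.subscheme]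
    (hcodim : ringKrullDim (X.presheaf.stalk (𝓘.subschemeι (genericPoint ↥𝓘.subscheme))) = 1)
    (hufd : ∀ x : ↥X, x ∈ 𝓘.support →
      IsDomain (X.presheaf.stalk x) ∧ UniqueFactorizationMonoid (X.presheaf.stalk x)) :
    BlowUp.IsEffCartierIdeal 𝓘 := by
  intro x
  obtain ⟨_, ⟨U, hU, rfl⟩, hxU, -⟩ :=
    X.isBasis_affineOpens.exists_subset_of_mem_open (Set.mem_univ x) isOpen_univ
  have hU' : IsAffineOpen U := hU
  haveI : IsNoetherianRing Γ(X, U) := IsLocallyNoetherian.component_noetherian ⟨U, hU'⟩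
  set I := 𝓘.ideal ⟨U, hU'⟩ with hI
  set p := (hU'.primeIdealOf ⟨x, hxU⟩).asIdeal with hp
  have hmem : ∀ (y : X) (hy : y ∈ U), y ∈ 𝓘.support ↔ I ≤ (hU'.primeIdealOf ⟨y, hy⟩).asIdeal := by
    intro y hy
    rw [Scheme.IdealSheafData.mem_support_iff_of_mem (U := ⟨U, hU'⟩) hy, Scheme.mem_zeroLocus_iff]
    have key : ∀ a, y ∈ X.basicOpen a ↔ a ∉ (hU'.primeIdealOf ⟨y, hy⟩).asIdeal :=
      Groth.Agent.QCoh.mem_basicOpen_iff_notMem hU' hy
    exact ⟨fun h a ha => by_contra fun hn => h a ha ((key a).2 hn), fun h a ha hya => (key a).1 hya (h ha)⟩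
  suffices H : ∃ a : Γ(X, U), a ∉ p ∧ ∃ g : Γ(X, U), ∀ (S : Type u) [CommRing S] [Algebra Γ(X, U) S]
      [IsLocalization.Away a S], I.map (algebraMap Γ(X, U) S) = Ideal.span {algebraMap Γ(X, U) S g} ∧
        algebraMap Γ(X, U) S g ∈ nonZeroDivisors S by
    obtain ⟨a, ha, g, hg⟩ := H
    have hxa : x ∈ X.basicOpen a := (Groth.Agent.QCoh.mem_basicOpen_iff_notMem hU' hxU a).2 ha
    haveI := hU'.isLocalization_basicOpen a
    obtain ⟨h1, h2⟩ := hg Γ(X, X.basicOpen a)
    refine ⟨X.affineBasicOpen (U := ⟨U, hU'⟩) a, hxa, _, h2, ?_⟩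
    rw [← 𝓘.map_ideal_basicOpen ⟨U, hU'⟩ a]
    exact h1
  by_cases hx : x ∈ 𝓘.support
  · haveI : Nonempty ↥(𝓘.subschemeι ⁻¹ᵁ U) := by
      rw [← SetLike.mem_coe, ← Scheme.IdealSheafData.range_subschemeι] at hx
      obtain ⟨z, rfl⟩ := hx
      exact ⟨⟨z, hxU⟩⟩
    haveI : IsDomain Γ(𝓘.subscheme, 𝓘.subschemeι ⁻¹ᵁ U) :=
      @IsIntegral.component_integral _ _ (𝓘.subschemeι ⁻¹ᵁ U) ‹_›
    haveI hIp : I.IsPrime := by
      rw [hI, ← Scheme.IdealSheafData.ker_subschemeι_app]
      exact RingHom.ker_isPrime _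
    set y := 𝓘.subschemeι (genericPoint ↥𝓘.subscheme) with hy
    have hyU : y ∈ U := ((genericPoint_spec ↥𝓘.subscheme).mem_open_set_iff (𝓘.subschemeι ⁻¹ᵁ U).2).2
      (by obtain ⟨⟨z, hz⟩⟩ := ‹Nonempty ↥(𝓘.subschemeι ⁻¹ᵁ U)›; exact ⟨z, trivial, hz⟩)
    have hyI : (hU'.primeIdealOf ⟨y, hyU⟩).asIdeal = I := by
      refine le_antisymm ?_ ((hmem y hyU).1 (by
        rw [← SetLike.mem_coe, ← Scheme.IdealSheafData.range_subschemeι]; exact ⟨_, rfl⟩))
      let q : PrimeSpectrum Γ(X, U) := ⟨I, hIp⟩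
      have hqU : hU'.fromSpec q ∈ U := by
        have : hU'.fromSpec q ∈ hU'.fromSpec.opensRange := ⟨q, rfl⟩
        rwa [IsAffineOpen.opensRange_fromSpec] at this
      have hq : hU'.primeIdealOf ⟨hU'.fromSpec q, hqU⟩ = q :=
        hU'.fromSpec.isOpenEmbedding.injective (hU'.fromSpec_primeIdealOf ⟨_, hqU⟩)
      have hqS : hU'.fromSpec q ∈ 𝓘.support := (hmem _ hqU).2 (by rw [hq])
      rw [← SetLike.mem_coe, ← Scheme.IdealSheafData.range_subschemeι] at hqS
      obtain ⟨w, hw⟩ := hqS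
      have hsp : y ⤳ hU'.fromSpec q := hw ▸ (genericPoint_specializes w).map 𝓘.subschemeι.continuous
      have : hU'.primeIdealOf ⟨y, hyU⟩ ⤳ q := by
        rw [← hU'.fromSpec.isOpenEmbedding.isInducing.specializes_iff, hU'.fromSpec_primeIdealOf]
        exact hsp
      exact (PrimeSpectrum.le_iff_specializes _ q).2 this
    have hht : I.height = 1 := by
      letI : Algebra Γ(X, U) (X.presheaf.stalk y) := (X.presheaf.germ U y hyU).hom.toAlgebra
      haveI : IsLocalization.AtPrime (X.presheaf.stalk y) (hU'.primeIdealOf ⟨y, hyU⟩).asIdeal :=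
        hU'.isLocalization_stalk ⟨y, hyU⟩
      have := IsLocalization.AtPrime.ringKrullDim_eq_height (hU'.primeIdealOf ⟨y, hyU⟩).asIdeal
        (X.presheaf.stalk y)
      rw [hcodim, hyI] at this
      exact_mod_cast this.symm
    obtain ⟨hdom, hufd'⟩ := hufd x hx
    letI : Algebra Γ(X, U) (X.presheaf.stalk x) := (X.presheaf.germ U x hxU).hom.toAlgebra
    haveI : IsLocalization.AtPrime (X.presheaf.stalk x) p := hU'.isLocalization_stalk ⟨x, hxU⟩
    have hle : I ≤ p := (hmem x hxU).1 hx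
    have hdisj : Disjoint (p.primeCompl : Set Γ(X, U)) (I : Set Γ(X, U)) :=
      Set.disjoint_left.2 fun a ha haI => ha (hle haI)
    haveI := IsLocalization.isPrime_of_isPrime_disjoint p.primeCompl (X.presheaf.stalk x) I hIp hdisj
    obtain ⟨π, hπ, hπI⟩ := exists_prime_span_of_height_one (I.map (algebraMap Γ(X, U) (X.presheaf.stalk x)))
      (by rw [IsLocalization.height_map_of_disjoint p.primeCompl I hdisj, hht])
    obtain ⟨⟨g, u⟩, hgu⟩ := IsLocalization.surj p.primeCompl π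
    have hassoc : Ideal.span {algebraMap Γ(X, U) (X.presheaf.stalk x) g} = Ideal.span {π} := by
      rw [← hgu, Ideal.span_singleton_mul_right_unit (IsLocalization.map_units _ u)]
    have hgI : g ∈ I := by
      have h1 : algebraMap Γ(X, U) (X.presheaf.stalk x) g ∈ I.map (algebraMap Γ(X, U) (X.presheaf.stalk x)) := by
        rw [hπI, ← hassoc]; exact Ideal.mem_span_singleton_self _
      have := IsLocalization.under_map_of_isPrime_disjoint p.primeCompl (X.presheaf.stalk x) hIp hdisj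
      rw [← this]
      exact h1
    obtain ⟨a, ha, hA⟩ := exists_gen_away I p (X.presheaf.stalk x) g (by
      intro h0; rw [h0, Ideal.span_singleton_zero] at hassoc
      exact hπ.ne_zero (Ideal.span_singleton_eq_bot.1 hassoc.symm)) hgI (hπI.trans hassoc.symm)
    exact ⟨a, ha, g, hA⟩
  · obtain ⟨a, haI, hap⟩ := SetLike.not_le_iff_exists.1 (fun h => hx ((hmem x hxU).2 h))
    refine ⟨a, hap, 1, fun S _ _ _ => ⟨?_, by rw [map_one]; exact one_mem _⟩⟩
    rw [map_one, Ideal.span_singleton_one, Ideal.eq_top_iff_one]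
    have hu := IsLocalization.Away.algebraMap_isUnit (S := S) a
    rw [← hu.unit.inv_mul, hu.unit_spec]
    exact Ideal.mul_mem_left _ _ (Ideal.mem_map_of_mem _ haI)

end Groth.Agent.DivX
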